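import Groth.Prelude.Def_ModelsG
import Groth.Agent.S2209
import Groth.Agent.L11.SmRegular.Basic
import Groth.Agent.L16.SecComp.Smooth
import Groth.Agent.L17.ThickBasic
import Groth.Agent.L23.SchKer
import Groth.Agent.L07.ParafPrincipal
import Groth.Agent.L07.PrinParts.GrBaseChange
import Groth.Agent.L21.RR.PicFieldExt
import Groth.Agent.L21.P1.Coh
import Groth.Agent.L16.ProjSpace.TwistMul

/-!
# Smooth proper models have no exceptional curves
-/

set_option autoImplicit false
set_option linter.style.haveILetI false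
set_option backward.isDefEq.respectTransparency false

universe u

open CategoryTheory CategoryTheory.Limits AlgebraicGeometry TopologicalSpace Opposite

noncomputable section

namespace Groth.L05.SmoothMinimal

/-- `O(1)` on the projective line is not trivial. -/
theorem not_iso_twist_one (k : Type u) [Field k]
    (e : Coh.structureModule (CohB1.ProjSpace 1 k) ≅ Twist.twistProjSpace 1 k 1) : False := by
  obtain ⟨e0⟩ := Groth.L16.ProjTwist.nonempty_twist_zero_iso (CohB1.polyGrading 1 k)
  have h := Groth.L21.RR.h_congr (k := k)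
    (show Groth.L21.P1.O k 0 ≅ Groth.L21.P1.O k 1 from e0 ≪≫ e) 0
  rw [(Groth.L21.P1.h_O k 0).1, (Groth.L21.P1.h_O k 1).1] at h
  exact absurd h (by decide)

/-- A prime `Q` below a principal prime `P`, with a nonzerodivisor in `Q`, equals `P` in a local domain. -/
theorem eq_of_le_principal {A : Type u} [CommRing A] [IsDomain A] [IsNoetherianRing A] [IsLocalRing A]
    {g x : A} (hg : IsLocalRing.maximalIdeal A = Ideal.span {g}) (Q : Ideal A) [Q.IsPrime] (hx : x ∈ Q)
    (hx0 : x ≠ 0) : Q = IsLocalRing.maximalIdeal A := by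
  by_contra hne
  have hle := IsLocalRing.le_maximalIdeal (Ideal.IsPrime.ne_top (I := Q) inferInstance)
  have hgQ : g ∉ Q := fun h => hne (le_antisymm hle (by rw [hg, Ideal.span_le]; simpa using h))
  have hQ : Q ≤ IsLocalRing.maximalIdeal A • Q := fun q hq => by
    have hq' := hle hq
    rw [hg, Ideal.mem_span_singleton] at hq'
    obtain ⟨b, rfl⟩ := hq'
    exact Submodule.smul_mem_smul (by rw [hg]; exact Ideal.mem_span_singleton_self g)
      ((‹Q.IsPrime›.mem_or_mem hq).resolve_left hgQ)
  have h0 : Q = ⊥ := Submodule.eq_bot_of_le_smul_of_le_jacobson_bot _ Q (IsNoetherian.noetherian Q) hQ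
    (IsLocalRing.maximalIdeal_le_jacobson _)
  exact hx0 (Ideal.mem_bot.1 (h0 ▸ hx))

variable (R : Type u) [CommRing R] [IsDomain R] [IsDiscreteValuationRing R]
  {X : Scheme.{u}} (p : X ⟶ Spec (CommRingCat.of R))

/-- The inclusion of the closed point. -/
def pt : Spec (CommRingCat.of (IsLocalRing.ResidueField R)) ⟶ Spec (CommRingCat.of R) :=
  Spec.map (CommRingCat.ofHom (algebraMap R (IsLocalRing.ResidueField R)))

instance : IsClosedImmersion (pt R) :=
  IsClosedImmersion.spec_of_surjective _ Ideal.Quotient.mk_surjective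

theorem range_pt : Set.range (pt R).base = {IsLocalRing.closedPoint R} := by
  ext y
  constructor
  · rintro ⟨z, rfl⟩
    refine PrimeSpectrum.ext ?_
    show Ideal.comap (algebraMap R (IsLocalRing.ResidueField R)) z.asIdeal = _
    rw [Subsingleton.elim z (⊥ : PrimeSpectrum (IsLocalRing.ResidueField R))]
    exact Ideal.mk_ker
  · rintro rfl
    refine ⟨(⊥ : PrimeSpectrum (IsLocalRing.ResidueField R)), PrimeSpectrum.ext ?_⟩
    exact Ideal.mk_ker

theorem isRegularScheme [Smooth p] : Models.IsRegularScheme X := fun x => by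
  haveI : IsRegularLocalRing ((Spec (CommRingCat.of R)).presheaf.stalk (p x)) :=
    haveI : IsRegularLocalRing (Localization.AtPrime (p x).asIdeal) := Groth.Agent.S0564.result R _
    IsRegularLocalRing.of_ringEquiv (StructureSheaf.stalkIso R (p x)).toRingEquiv
  exact Groth.L11.SmRegular.isRegularLocalRing_stalk p x

theorem nonempty_iso_idealMod_pt {π : R} (hπ : Irreducible π) :
    Nonempty (Coh.structureModule (Spec (CommRingCat.of R)) ≅ ClSub.idealMod (pt R).ker) := by
  let S := Spec (CommRingCat.of R)
  haveI : IsDomain (CommRingCat.of R) := inferInstanceAs (IsDomain R)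
  let U : S.affineOpens := ⟨⊤, isAffineOpen_top S⟩
  let c := (Scheme.ΓSpecIso (CommRingCat.of R)).inv
  have hI : (pt R).ker.ideal U = Ideal.span {c π} := by
    refine le_antisymm (fun a ha => ?_) ?_
    · obtain ⟨r, rfl⟩ := (ConcreteCategory.bijective_of_isIso c).2 a
      rw [Scheme.Hom.ker_apply, RingHom.mem_ker] at ha
      have h1 := congr($(Scheme.ΓSpecIso_inv_naturality (CommRingCat.ofHom (algebraMap R (IsLocalRing.ResidueField R)))) r)
      have h2 : algebraMap R (IsLocalRing.ResidueField R) r = 0 :=
        (ConcreteCategory.bijective_of_isIso (Scheme.ΓSpecIso (CommRingCat.of (IsLocalRing.ResidueField R))).inv).1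
          (h1.trans (ha.trans (map_zero _).symm))
      replace h2 := (IsLocalRing.residue_eq_zero_iff r).1 h2
      rw [hπ.maximalIdeal_eq, Ideal.mem_span_singleton] at h2
      exact Ideal.mem_span_singleton.2 (map_dvd c.hom h2)
    · rw [Ideal.span_le, Set.singleton_subset_iff, SetLike.mem_coe, Scheme.Hom.ker_apply, RingHom.mem_ker]
      have h1 := congr($(Scheme.ΓSpecIso_inv_naturality (CommRingCat.ofHom (algebraMap R (IsLocalRing.ResidueField R)))) π)
      have h2 : algebraMap R (IsLocalRing.ResidueField R) π = 0 :=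
        (IsLocalRing.residue_eq_zero_iff _).2 (by rw [hπ.maximalIdeal_eq]; exact Ideal.mem_span_singleton_self π)
      exact h1.symm.trans ((congrArg (fun t => (Scheme.ΓSpecIso (CommRingCat.of (IsLocalRing.ResidueField R))).inv t) h2).trans (map_zero _))
  obtain ⟨m, hm⟩ := Groth.L07.ParafPrincipal.isGen_idealMod (pt R).ker U (c π) hI
    fun h => hπ.ne_zero ((ConcreteCategory.bijective_of_isIso c).1 (h.trans (map_zero _).symm))
  exact Groth.L21.PicExt.nonempty_iso_of_isFrame_top (s := m) hm

theorem not_isExcCurve (C : Scheme.{u}) (f : C ⟶ Spec (CommRingCat.of (FractionRing R)))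
    (hC : Curve.IsSmoothProperCurve (FractionRing R) C f) (hH0 : IsIso f.appTop)
    (hX : Models.IsRegularProperModel R X p C f) [IsProper p] [Smooth p]
    (Γ : ArSurf.VertComp R (Over.mk p)) : ¬ Models.IsExcCurve Γ.ι := by
  rintro ⟨hcart, k, _, e, ⟨eI⟩⟩
  obtain ⟨π, hπ⟩ := IsDiscreteValuationRing.exists_irreducible R
  let ι : Γ.curve.left ⟶ X := Γ.ι
  haveI : IsClosedImmersion ι := Γ.isClosedImmersion
  haveI : IsIntegral Γ.curve.left := Γ.isIntegral
  haveI : ConnectedSpace ↥(pullback p (pt R)) := Groth.Agent.S2209.result R C X f p hC hH0 hX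
  haveI : Smooth (pullback.snd p (pt R)) := MorphismProperty.pullback_snd _ _ inferInstance
  haveI : IsLocallyNoetherian (pullback p (pt R)) :=
    LocallyOfFiniteType.isLocallyNoetherian (pullback.snd p (pt R))
  haveI : IsReduced (pullback p (pt R)) := Groth.L16.SecComp.isReduced_of_smooth (pullback.snd p (pt R))
  haveI : IrreducibleSpace ↥(pullback p (pt R)) := Groth.L02.SchDom.irreducibleSpace_of_connected
    fun z => Groth.L21.Smooth.isDomain_stalk (k := IsLocalRing.ResidueField R) (pullback.snd p (pt R)) z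
  let i := pullback.fst p (pt R)
  have hi : Set.range i.base = p.base ⁻¹' {IsLocalRing.closedPoint R} := by
    rw [← range_pt R]; exact Scheme.Pullback.range_fst p (pt R)
  let ξ : X := ι.base (genericPoint Γ.curve.left)
  have hrange : Set.range ι.base = closure {ξ} := by
    rw [← Set.image_univ, ← genericPoint_closure, ← ι.isClosedEmbedding.closure_image_eq, Set.image_singleton]
  have hsub : Set.range ι.base ⊆ Set.range i.base := by
    rintro _ ⟨z, rfl⟩
    rw [hi, ← range_pt R]
    refine ⟨Γ.curve.hom.base z, ?_⟩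
    exact (congr($(Γ.w) z)).symm
  have hcart' : BlowUp.IsEffCartierIdeal (X := X) ι.ker := hcart
  obtain ⟨U, hξU, g, hg, hgU⟩ := hcart' ξ
  haveI : IsLocallyNoetherian X := LocallyOfFiniteType.isLocallyNoetherian p
  haveI : IsNoetherianRing Γ(X, U.1) := IsLocallyNoetherian.component_noetherian U
  let P := U.2.primeIdealOf ⟨ξ, hξU⟩
  have hP : U.2.fromSpec P = ξ := U.2.fromSpec_primeIdealOf ⟨ξ, hξU⟩
  have hker : ι.ker = Scheme.IdealSheafData.vanishingIdeal ⟨closure {ξ}, isClosed_closure⟩ := by
    rw [Groth.L23.SchKer.ker_eq_vanishingIdeal]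
    congr 1
    ext1
    show closure (Set.range ι.base) = closure {ξ}
    rw [hrange, closure_closure]
  have hPg : P.asIdeal = Ideal.span {g} := by
    rw [← hgU]
    show P.asIdeal = ι.ker.ideal U
    rw [hker, Scheme.IdealSheafData.vanishingIdeal_ideal]
    show P.asIdeal = PrimeSpectrum.vanishingIdeal (U.2.fromSpec.base ⁻¹' closure {ξ})
    rw [U.2.fromSpec.isOpenEmbedding.isOpenMap.preimage_closure_eq_closure_preimage U.2.fromSpec.continuous,
      PrimeSpectrum.vanishingIdeal_closure,
      show U.2.fromSpec.base ⁻¹' {ξ} = {P} from Set.eq_singleton_iff_unique_mem.2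
        ⟨hP, fun q hq => U.2.fromSpec.isOpenEmbedding.injective (hq.trans hP.symm)⟩,
      PrimeSpectrum.vanishingIdeal_singleton]
  let η : X := i.base (genericPoint ↥(pullback p (pt R)))
  have hirange : Set.range i.base = closure {η} := by
    rw [← Set.image_univ, ← genericPoint_closure, ← i.isClosedEmbedding.closure_image_eq, Set.image_singleton]
  have hηξ : η ⤳ ξ := by
    rw [specializes_iff_mem_closure, ← hirange]
    exact hsub ⟨_, rfl⟩
  have hηU : η ∈ U.1 := hηξ.mem_open U.1.2 hξU
  have heq : η = ξ := by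
    let Q := U.2.primeIdealOf ⟨η, hηU⟩
    have hQ : U.2.fromSpec Q = η := U.2.fromSpec_primeIdealOf ⟨η, hηU⟩
    have hQP : Q.asIdeal ≤ P.asIdeal := by
      refine (PrimeSpectrum.le_iff_specializes Q P).2 ?_
      rw [← U.2.fromSpec.isOpenEmbedding.isInducing.specializes_iff, hQ, hP]
      exact hηξ
    let rA : R →+* Γ(X, U.1) :=
      (p.appLE ⊤ U.1 (by simp)).hom.comp (Scheme.ΓSpecIso (CommRingCat.of R)).inv.hom
    letI := rA.toAlgebra
    haveI : Module.Flat R Γ(X, U.1) := by
      have h := Flat.flat_appLE p (isAffineOpen_top _) U.2 (by simp)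
      have h' : rA.Flat := RingHom.Flat.comp
        (RingHom.Flat.of_bijective (ConcreteCategory.bijective_of_isIso (Scheme.ΓSpecIso (CommRingCat.of R)).inv)) h
      exact h'
    have hπQ : rA π ∈ Q.asIdeal := by
      have hη : p.base η = IsLocalRing.closedPoint R := by
        have : η ∈ Set.range i.base := ⟨_, rfl⟩
        rwa [hi] at this
      have hb : η ∉ X.basicOpen (rA π) := by
        intro hmem
        rw [RingHom.comp_apply, Scheme.Hom.appLE, CommRingCat.hom_comp, RingHom.comp_apply,
          Scheme.basicOpen_res, ← Scheme.preimage_basicOpen, basicOpen_eq_of_affine] at hmem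
        have hm2 : p.base η ∈ PrimeSpectrum.basicOpen π := hmem.2
        rw [hη] at hm2
        exact hm2 (by
          show π ∈ IsLocalRing.maximalIdeal R
          rw [hπ.maximalIdeal_eq]; exact Ideal.mem_span_singleton_self π)
      by_contra hcon
      have h1 : Q ∈ PrimeSpectrum.basicOpen (rA π) := hcon
      rw [← U.2.fromSpec_preimage_basicOpen] at h1
      exact hb (by rw [← hQ]; exact h1)
    haveI : IsRegularLocalRing (Localization.AtPrime P.asIdeal) := by
      letI := TopCat.Presheaf.algebra_section_stalk X.presheaf (⟨ξ, hξU⟩ : U.1)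
      haveI := U.2.isLocalization_stalk ⟨ξ, hξU⟩
      haveI := isRegularScheme R p ξ
      exact IsRegularLocalRing.of_ringEquiv
        (IsLocalization.algEquiv P.asIdeal.primeCompl (X.presheaf.stalk ξ) (Localization.AtPrime P.asIdeal)).toRingEquiv
    haveI := Groth.L01.isDomain_of_regular (Localization.AtPrime P.asIdeal)
    let L := Localization.AtPrime P.asIdeal
    have hdisj : Disjoint (P.asIdeal.primeCompl : Set Γ(X, U.1)) Q.asIdeal :=
      Set.disjoint_left.2 fun a ha hq => ha (hQP hq)
    haveI : (Q.asIdeal.map (algebraMap Γ(X, U.1) L)).IsPrime :=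
      IsLocalization.isPrime_of_isPrime_disjoint P.asIdeal.primeCompl L _ inferInstance hdisj
    have hmax : IsLocalRing.maximalIdeal L = Ideal.span {algebraMap _ L g} := by
      rw [← IsLocalization.AtPrime.map_eq_maximalIdeal P.asIdeal L,
        congrArg (Ideal.map (algebraMap Γ(X, U.1) L)) hPg, Ideal.map_span, Set.image_singleton]
    have hne : algebraMap _ L (rA π) ≠ 0 := by
      intro h0
      obtain ⟨⟨s, hs⟩, hs'⟩ := (IsLocalization.map_eq_zero_iff P.asIdeal.primeCompl L _).1 h0
      refine hs ?_
      have : s = 0 := by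
        have hinj := Module.Flat.isSMulRegular_of_isRegular (M := Γ(X, U.1)) (isRegular_iff_ne_zero.2 hπ.ne_zero)
        refine hinj (show π • s = π • (0 : Γ(X, U.1)) from ?_)
        rw [smul_zero, Algebra.smul_def, mul_comm]
        exact hs'
      rw [this]; exact zero_mem _
    have h := eq_of_le_principal hmax (Q.asIdeal.map (algebraMap Γ(X, U.1) L))
      (Ideal.mem_map_of_mem _ hπQ) hne
    have hQeq : Q.asIdeal = P.asIdeal := by
      rw [← IsLocalization.comap_map_of_isPrime_disjoint P.asIdeal.primeCompl L inferInstance hdisj, h,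
        IsLocalization.AtPrime.comap_maximalIdeal L P.asIdeal]
    rw [← hQ, ← hP, PrimeSpectrum.ext hQeq]
  have hkeq : ι.ker = (pt R).ker.comap p := by
    rw [← Groth.L17.Thick.ker_of_isPullback (IsPullback.of_hasPullback p (pt R)), hker,
      Groth.L23.SchKer.ker_eq_vanishingIdeal]
    congr 1
    ext1
    show closure {ξ} = closure (Set.range i.base)
    rw [hirange, closure_closure, heq]
  obtain ⟨α, -, -, hα⟩ := Groth.L07.PrinParts.exists_idealMap p (pt R).ker ι.ker hkeq
  haveI := hα (Groth.L07.PrinParts.mono_pullback_idealι p _)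
  obtain ⟨e0⟩ := nonempty_iso_idealMod_pt R hπ
  let eO : Coh.structureModule X ≅ ClSub.idealMod ι.ker :=
    (Groth.L29.LocFree.pullbackUnitIso p).symm ≪≫ (Scheme.Modules.pullback p).mapIso e0 ≪≫ asIso α
  exact not_iso_twist_one k ((Groth.L29.LocFree.pullbackUnitIso (e.hom ≫ ι)).symm ≪≫
    (Scheme.Modules.pullback (e.hom ≫ ι)).mapIso eO ≪≫ eI)

end Groth.L05.SmoothMinimal
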